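import Cfsg.Agent.H804.KB.AbBase
import Cfsg.Agent.H728.Ext.OutHom
import Cfsg.Agent.H804.Ext.RowsE

/-!
# S4822, AO6: the outer automorphism homomorphism of `E₆(q)`, `E₇(q)`; `ab_chev` (helper804)

* `exists_outHom_E6`, `exists_outHom_E7` ;
* `commOut_E7`, `commOut_E6` (if `gcd(3, q - 1) = 1`);
* `ab_chev`.
-/

set_option autoImplicit false
set_option linter.unusedSectionVars false

open Cfsg

namespace Cfsg.Agent.H804.KB

open CoxeterSystem Cfsg.Agent.ChevalleyStructure.CoxeterGeom Cfsg.Agent.Tits.Roots Cfsg.Agent.Tits.Core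
  Cfsg.Agent.Nodes.Reps Cfsg.Agent.Nodes.BNOf Cfsg.Agent.Nodes.OppDec Cfsg.Agent.Nodes.RGDChev
open Cfsg.Agent.KFacts.RgdAut Cfsg.Agent.KFacts.RgdDiag Cfsg.Agent.KFacts.RgdRigid
  Cfsg.Agent.KFacts.RgdField Cfsg.Agent.KFacts.RgdTau Cfsg.Agent.KFacts.RgdChevCoord
open Cfsg.Lie Cfsg.Agent.ChevalleyStructure Cfsg.Agent.ChevalleyStructure.Elts
  Cfsg.Agent.ChevalleyStructure.NPerm Cfsg.Agent.ChevalleyStructure.CoxeterGeomTypes
open Cfsg.Agent.H35.ExcIdx (hpE6 hpE7)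
open Cfsg.Agent.H804.Ext (laced_E6 laced_E7 exists_ne_of)

/-- the symmetries of the diagram of type `E₆` -/
theorem vals_E6 {σ : Equiv.Perm (Fin 6)} (hσ : ∀ i j, CoxeterMatrix.E₆ (σ i) (σ j) = CoxeterMatrix.E₆ i j) :
    (∀ i, σ i = i) ∨ ∀ i, σ i = ![5, 1, 4, 3, 2, 0] i := by
  have h1 : ∀ i, ![2, 3, 4, 5, 4, 2] (σ i) = ![2, 3, 4, 5, 4, 2] i := by
    refine Cfsg.Agent.CpAut.RgdUntw.inv_step hσ (g := ![1, 1, 2, 3, 2, 1]) ?_ (by decide)
    exact Cfsg.Agent.CpAut.RgdUntw.inv_step hσ (g := fun _ => 1) (fun _ => rfl) (by decide)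
  have k2 : ∀ a : Fin 6, ![2, 3, 4, 5, 4, 2] a = 2 → a = 0 ∨ a = 5 := by decide
  have k3 : ∀ a : Fin 6, ![2, 3, 4, 5, 4, 2] a = 3 → a = 1 := by decide
  have k4 : ∀ a : Fin 6, ![2, 3, 4, 5, 4, 2] a = 4 → a = 2 ∨ a = 4 := by decide
  have k5 : ∀ a : Fin 6, ![2, 3, 4, 5, 4, 2] a = 5 → a = 3 := by decide
  have a1 := k3 _ (h1 1)
  have a3 := k5 _ (h1 3)
  have e02 : CoxeterMatrix.E₆ (σ 0) (σ 2) = 3 := (hσ 0 2).trans (by decide +kernel)
  have e54 : CoxeterMatrix.E₆ (σ 5) (σ 4) = 3 := (hσ 5 4).trans (by decide +kernel)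
  have e05 : σ 0 ≠ σ 5 := fun e => absurd (σ.injective e) (by decide)
  have b04 : CoxeterMatrix.E₆ 0 4 ≠ 3 := by decide +kernel
  have b52 : CoxeterMatrix.E₆ 5 2 ≠ 3 := by decide +kernel
  rcases k2 _ (h1 0) with a0 | a0
  · have a5 : σ 5 = 5 := (k2 _ (h1 5)).resolve_left fun h => e05 (a0.trans h.symm)
    have a2 : σ 2 = 2 := (k4 _ (h1 2)).resolve_right fun h => b04 (by rw [a0, h] at e02; exact e02)
    have a4 : σ 4 = 4 := (k4 _ (h1 4)).resolve_left fun h => b52 (by rw [a5, h] at e54; exact e54)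
    left; intro i; fin_cases i <;> assumption
  · have a5 : σ 5 = 0 := (k2 _ (h1 5)).resolve_right fun h => e05 (a0.trans h.symm)
    have a2 : σ 2 = 4 := (k4 _ (h1 2)).resolve_left fun h => b52 (by rw [a0, h] at e02; exact e02)
    have a4 : σ 4 = 2 := (k4 _ (h1 4)).resolve_right fun h => b04 (by rw [a5, h] at e54; exact e54)
    right; intro i; fin_cases i <;> assumption

/-- the symmetries of the diagram of type `E₆` commute -/
theorem comm_E6 {σ σ' : Equiv.Perm (Fin 6)} (hσ : ∀ i j, CoxeterMatrix.E₆ (σ i) (σ j) = CoxeterMatrix.E₆ i j)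
    (hσ' : ∀ i j, CoxeterMatrix.E₆ (σ' i) (σ' j) = CoxeterMatrix.E₆ i j) : σ * σ' = σ' * σ := by
  apply Equiv.ext
  intro i
  rw [Equiv.Perm.mul_apply, Equiv.Perm.mul_apply]
  rcases vals_E6 hσ with h | h <;> rcases vals_E6 hσ' with h' | h'
  · rw [h, h]
  · rw [h, h]
  · rw [h', h']
  · rw [h, h', h', h]

section

variable {K : Type} [Field K] [Fintype K] {r f : ℕ} (hr : r.Prime) (hf : f ≠ 0)
  (hK : Fintype.card K = r ^ f) [CharP K r]

include hr hf hK in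
/-- the outer automorphism homomorphism of `E₇(q)` -/
theorem exists_outHom_E7 [IsSimpleGroup ↥(chevE7.group K)] (hc : ∃ a b : ↥(chevE7.group K), a * b ≠ b * a) :
    ∃ l : MulAut ↥(chevE7.group K) →* Equiv.Perm (Fin 7) × (K ≃+* K), (∀ y, l (MulAut.conj y) = 1) ∧
      ∀ τ, ∃ β, (l β).2 = τ := by
  have hfr : Fact r.Prime := ⟨hr⟩
  have hfin := Cfsg.Agent.H53.HC.ExcRows.finite_group (K := K) chevE7
  have D := Cfsg.Agent.H35.ExcIdx.data_E7_3 hr hf hK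
  have hW := D.fin
  have hG1 : RGD.Sup (Cfsg.Agent.KFacts.RgdChevCoord.XX chevE7 7 K)
      {x | IsRoot CoxeterMatrix.E₇.toCoxeterSystem hpE7.isCartan x} = ⊤ := G1_eq_top hpE7 CoxeterMatrix.E₇.toCoxeterSystem
  have hZ := KFacts.RgdLieCharP.center_eq_bot hc
  have hconn := KFacts.RgdLieCharP.conn_of_simple D.rgd hG1 hZ
  have C := coords (K := K) hpE7 CoxeterMatrix.E₇.toCoxeterSystem r
  have H := coroots (K := K) hpE7 CoxeterMatrix.E₇.toCoxeterSystem r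
  obtain ⟨l, hl1, hl2, hl3⟩ := H728.Ext.exists_outHom D.rgd hG1 C H hconn
    fun σ hσ => cartan_of_laced hpE7.isCartan laced_E7 hσ
  refine ⟨l, hl1, fun τ => ⟨Cfsg.Agent.CpAut.RgdUntw.fld chevE7 τ, ?_⟩⟩
  have h1 := hl3 (Cfsg.Agent.CpAut.RgdUntw.fld chevE7 τ) 1 τ
    (Cfsg.Agent.CpAut.RgdConj.tau_of_std D.rgd hG1 C H hconn (by
      intro v hv a
      obtain ⟨s, hs, rfl⟩ := (isRoot_iff hpE7 CoxeterMatrix.E₇.toCoxeterSystem v).1 hv
      exact Cfsg.Agent.CpAut.RgdUntw.fld_xc hpE7 τ hs a))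
  rw [h1]

include hr hf hK in
/-- the outer automorphism homomorphism of `E₆(q)` -/
theorem exists_outHom_E6 [IsSimpleGroup ↥(chevE6.group K)] (hc : ∃ a b : ↥(chevE6.group K), a * b ≠ b * a) :
    ∃ l : MulAut ↥(chevE6.group K) →* Equiv.Perm (Fin 6) × (K ≃+* K), (∀ y, l (MulAut.conj y) = 1) ∧
      (∀ α β, l (α * β * α⁻¹ * β⁻¹) = 1) ∧
      (∀ φ σ, Diag (Cfsg.Agent.KFacts.RgdChevCoord.TT chevE6 K) (Cfsg.Agent.KFacts.RgdChevCoord.XX chevE6 6 K) φ σ →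
        ∃ τ, l φ = (σ, τ)) ∧
      (∀ β σ τ, Tau (Cfsg.Agent.KFacts.RgdChevCoord.TT chevE6 K)
        (Cfsg.Agent.KFacts.RgdChevCoord.XX chevE6 6 K)
        (ch hpE6) (cartanOf chevE6 6) β σ τ → l β = (σ, τ)) ∧
      (∀ τ, ∃ β, l β = (1, τ)) ∧
      (∀ α, l α = 1 → ∃ y β, α = MulAut.conj y * β ∧ Tau (Cfsg.Agent.KFacts.RgdChevCoord.TT chevE6 K)
        (Cfsg.Agent.KFacts.RgdChevCoord.XX chevE6 6 K)
        (ch hpE6) (cartanOf chevE6 6) β 1 1) := by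
  have hfr : Fact r.Prime := ⟨hr⟩
  have hfin := Cfsg.Agent.H53.HC.ExcRows.finite_group (K := K) chevE6
  have D := Cfsg.Agent.H35.ExcIdx.data_E6_3 hr hf hK
  have hW := D.fin
  have hG1 : RGD.Sup (Cfsg.Agent.KFacts.RgdChevCoord.XX chevE6 6 K)
      {x | IsRoot CoxeterMatrix.E₆.toCoxeterSystem hpE6.isCartan x} = ⊤ := G1_eq_top hpE6 CoxeterMatrix.E₆.toCoxeterSystem
  have hZ := KFacts.RgdLieCharP.center_eq_bot hc
  have hconn := KFacts.RgdLieCharP.conn_of_simple D.rgd hG1 hZ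
  have C := coords (K := K) hpE6 CoxeterMatrix.E₆.toCoxeterSystem r
  have H := coroots (K := K) hpE6 CoxeterMatrix.E₆.toCoxeterSystem r
  obtain ⟨l, hl1, hl2, hl3⟩ := H728.Ext.exists_outHom D.rgd hG1 C H hconn
    fun σ hσ => cartan_of_laced hpE6.isCartan laced_E6 hσ
  refine ⟨l, hl1, fun α β => ?_, fun φ σ hφ => ?_, hl3, fun τ => ⟨Cfsg.Agent.CpAut.RgdUntw.fld chevE6 τ, ?_⟩,
    fun α hα => ?_⟩
  · obtain ⟨-, α', -, hα⟩ := hl2 α
    obtain ⟨-, β', -, hβ⟩ := hl2 β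
    have hC : IsCyclic (K ≃+* K) := LieRecognition.FieldSemilinear.isCyclic_ringAut K
    have h1 : l α * l β = l β * l α := by
      refine Prod.ext (comm_E6 (hα.diag.matrix D.rgd) (hβ.diag.matrix D.rgd)) ?_
      exact IsCyclic.commGroup.mul_comm _ _
    rw [map_mul, map_mul, map_mul, map_inv, map_inv, h1]
    group
  · obtain ⟨τ, h2⟩ := exists_tau D.rgd C H hconn hφ (cartan_of_laced hpE6.isCartan laced_E6 (hφ.matrix D.rgd))
    exact ⟨τ, hl3 _ _ _ h2⟩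
  · exact hl3 (Cfsg.Agent.CpAut.RgdUntw.fld chevE6 τ) 1 τ
      (Cfsg.Agent.CpAut.RgdConj.tau_of_std D.rgd hG1 C H hconn (by
        intro v hv a
        obtain ⟨s, hs, rfl⟩ := (isRoot_iff hpE6 CoxeterMatrix.E₆.toCoxeterSystem v).1 hv
        exact Cfsg.Agent.CpAut.RgdUntw.fld_xc hpE6 τ hs a))
  · obtain ⟨y, β, h1, h2⟩ := hl2 α
    rw [hα] at h2
    exact ⟨y, β, h1, h2⟩

include hr hf hK in
theorem commOut_E7 [IsSimpleGroup ↥(chevE7.group K)] (hc : ∃ a b : ↥(chevE7.group K), a * b ≠ b * a) :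
    CommOut ↥(chevE7.group K) := by
  have hfr : Fact r.Prime := ⟨hr⟩
  have hfin := Cfsg.Agent.H53.HC.ExcRows.finite_group (K := K) chevE7
  have hC : IsCyclic (K ≃+* K) := LieRecognition.FieldSemilinear.isCyclic_ringAut K
  have hCf : Finite (K ≃+* K) := Finite.of_injective (fun f : K ≃+* K => (f : K → K)) DFunLike.coe_injective
  obtain ⟨l, hl1, hl2⟩ := exists_outHom_E7 hr hf hK hc
  have hcard := Cfsg.Agent.H70.OutE.card_out_E7 (p := r) hK
  have hcardF : Nat.card (K ≃+* K) = f :=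
    Cfsg.Agent.Lib.FieldAutCard.card_ringAut (Nat.one_le_iff_ne_zero.2 hf) hK
  refine commOut_of_hom ((MonoidHom.snd _ _).comp l) (fun τ => ?_) (fun g => ?_)
    (m := Nat.gcd 2 (r ^ f - 1)) (by rw [hcard, hcardF]) (Nat.gcd_le_left _ (by norm_num))
  · obtain ⟨β, hβ⟩ := hl2 τ
    exact ⟨β, hβ⟩
  · rw [MonoidHom.comp_apply, hl1]; rfl

section perm

open Cfsg.Agent.H70.ChevFix Cfsg.Agent.H70.ChevField
open scoped Pointwise

theorem mem_of_smul_eq {G : Type*} [Group G] {φ : MulAut G} {A B : Subgroup G} (h : φ • A = B) (x : G) :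
    φ x ∈ B ↔ x ∈ A := by
  rw [← h, Subgroup.mem_pointwise_smul_iff_inv_smul_mem]
  change φ⁻¹ (φ x) ∈ A ↔ x ∈ A
  rw [MulAut.inv_apply_self]

/-- permutation automorphisms are frame automorphisms -/
theorem diag_of_perm_E6 {φ : MulAut ↥(chevE6.group K)} {π : Equiv.Perm (Fin 6)} (hπ : Perm chevE6 K φ π) :
    Diag (Cfsg.Agent.KFacts.RgdChevCoord.TT chevE6 K) (Cfsg.Agent.KFacts.RgdChevCoord.XX chevE6 6 K) φ π where
  tor := by
    have h1 := Perm.smul_UU Cfsg.Agent.H70.OutE.inList_E6 hπ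
    have h2 := Perm.smul_VN Cfsg.Agent.H70.OutE.inList_E6 hπ
    have h3 : φ • Cfsg.Agent.KFacts.RgdChevCoord.TT chevE6 K = Cfsg.Agent.KFacts.RgdChevCoord.TT chevE6 K := by
      have h4 := normalizer_inf (F := K) Cfsg.Agent.H70.OutE.inList_E6
      have h5 : Cfsg.Agent.KFacts.RgdChevCoord.TT chevE6 K = _ := h4.symm
      rw [h5, Subgroup.smul_inf, Cfsg.Agent.H70.AutFix.smul_normalizer, Cfsg.Agent.H70.AutFix.smul_normalizer, h1, h2]
    exact fun x => mem_of_smul_eq h3 x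
  pos i x := by
    refine mem_of_smul_eq ?_ x
    have h1 := hπ.pos i
    change φ • ((XV chevE6 6 K (sr i)).subgroupOf _) = (XV chevE6 6 K (sr (π i))).subgroupOf _
    rw [XV_sr hpE6, XV_sr hpE6]
    exact h1
  neg i x := by
    refine mem_of_smul_eq ?_ x
    have h1 := hπ.neg i
    change φ • ((XV chevE6 6 K (-sr i)).subgroupOf _) = (XV chevE6 6 K (-sr (π i))).subgroupOf _
    rw [XV_neg_sr hpE6, XV_neg_sr hpE6]
    exact h1

end perm

include hr hf hK in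
/-- **The order of the image of the outer automorphism homomorphism of `E₆(q)`.** -/
theorem exists_hom_E6 [IsSimpleGroup ↥(chevE6.group K)] (hc : ∃ a b : ↥(chevE6.group K), a * b ≠ b * a) :
    ∃ l : MulAut ↥(chevE6.group K) →* Equiv.Perm (Fin 6) × (K ≃+* K), (∀ y, l (MulAut.conj y) = 1) ∧
      (∀ α β, l (α * β * α⁻¹ * β⁻¹) = 1) ∧
      (∀ β σ τ, Tau (Cfsg.Agent.KFacts.RgdChevCoord.TT chevE6 K)
        (Cfsg.Agent.KFacts.RgdChevCoord.XX chevE6 6 K)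
        (ch hpE6) (cartanOf chevE6 6) β σ τ → l β = (σ, τ)) ∧
      Nat.card (Cfsg.Out ↥(chevE6.group K)) ≤ Nat.gcd 3 (r ^ f - 1) * Nat.card l.range := by
  have hfr : Fact r.Prime := ⟨hr⟩
  have hfin := Cfsg.Agent.H53.HC.ExcRows.finite_group (K := K) chevE6
  have hCf : Finite (K ≃+* K) := Finite.of_injective (fun f : K ≃+* K => (f : K → K)) DFunLike.coe_injective
  obtain ⟨l, hl1, hl2, hl3, hl4, hl5, -⟩ := exists_outHom_E6 hr hf hK hc
  refine ⟨l, hl1, hl2, hl4, ?_⟩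
  have hcard := Cfsg.Agent.H70.OutE.card_out_E6 (p := r) hK
  have hcardF : Nat.card (K ≃+* K) = f :=
    Cfsg.Agent.Lib.FieldAutCard.card_ringAut (Nat.one_le_iff_ne_zero.2 hf) hK
  obtain ⟨φ6, γ, τ₀, hτ₀, hne⟩ : ∃ (φ6 : Equiv.Perm (Fin 6)) (γ : MulAut ↥(chevE6.group K)) (τ₀ : K ≃+* K),
      l γ = (φ6, τ₀) ∧ φ6 ≠ 1 := by
    obtain ⟨γ, hγ⟩ := Cfsg.Agent.H70.OutE.flip_realised (F := K)
    obtain ⟨τ₀, hτ₀⟩ := hl3 γ Cfsg.Agent.H70.OutE.flip (diag_of_perm_E6 hγ)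
    exact ⟨_, γ, τ₀, hτ₀, Cfsg.Agent.H70.OutE.flip_ne_one⟩
  choose b hb using hl5
  have h1 : Nat.card (Bool × (K ≃+* K)) ≤ Nat.card l.range := by
    let g : Bool × (K ≃+* K) → l.range := fun x => ⟨l (b x.2 * if x.1 then γ else 1), _, rfl⟩
    have hg : ∀ x : Bool × (K ≃+* K), ((g x : l.range) : Equiv.Perm (Fin 6) × (K ≃+* K)) =
        (if x.1 then φ6 else 1, x.2 * if x.1 then τ₀ else 1) := by
      rintro ⟨x, τ⟩
      change l (b τ * if x then γ else 1) = _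
      rw [map_mul, hb]
      cases x
      · simp
      · simp only [if_true, hτ₀]
        exact Prod.ext (one_mul _) rfl
    refine Nat.card_le_card_of_injective g ?_
    rintro ⟨x, τ⟩ ⟨x', τ'⟩ h
    have h2 := congrArg Subtype.val h
    rw [hg, hg] at h2
    have h3 := congrArg Prod.fst h2
    have h4 := congrArg Prod.snd h2
    cases x <;> cases x' <;> simp at h3 h4 ⊢
    · exact h4
    · exact absurd h3.symm hne
    · exact absurd h3 hne
    · exact h4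
  rw [Nat.card_prod, hcardF] at h1
  have h2 : Nat.card Bool = 2 := by simp
  rw [h2] at h1
  rw [hcard]
  calc 2 * Nat.gcd 3 (r ^ f - 1) * f = Nat.gcd 3 (r ^ f - 1) * (2 * f) := by ring
    _ ≤ _ := Nat.mul_le_mul_left _ h1

include hr hf hK in
/-- the outer automorphism group of `E₆(q)` is abelian if `gcd(3, q - 1) = 1` -/
theorem commOut_E6 [IsSimpleGroup ↥(chevE6.group K)] (hc : ∃ a b : ↥(chevE6.group K), a * b ≠ b * a)
    (h3 : Nat.gcd 3 (r ^ f - 1) = 1) : CommOut ↥(chevE6.group K) := by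
  have hfin := Cfsg.Agent.H53.HC.ExcRows.finite_group (K := K) chevE6
  obtain ⟨l, h1, h2, -, h4⟩ := exists_hom_E6 hr hf hK hc
  rw [h3] at h4
  exact commOut_of_ker l h1 h2 h4

end

section main

open Cfsg.Agent.H508.KB

universe u

variable {p : ℕ} [Fact p.Prime] {r : ℕ} [Fact r.Prime]

theorem exists_rf (F : Type) [Field F] [Fintype F] [CharP F r] : ∃ f : ℕ, f ≠ 0 ∧ Fintype.card F = r ^ f := by
  obtain ⟨n, hr, hn⟩ := FiniteField.card F r
  exact ⟨n, n.ne_zero, hn⟩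

/-- **AO6: `G₂(q)`, `F₄(q)`, `E₇(q)`, `E₈(q)`.** -/
theorem ab_chev {S : Type u} [Group S] [Finite S] [IsSimpleGroup S] (_ : r ≠ p) (_ : 5 ≤ p) {F : Type} [Field F]
    [Fintype F] [CharP F r]
    (e : (3 ≤ Fintype.card F ∧ Nonempty (S ≃* Lie.chevG2.group F)) ∨ Nonempty (S ≃* Lie.chevF4.group F) ∨
      Nonempty (S ≃* Lie.chevE7.group F) ∨ Nonempty (S ≃* Lie.chevE8.group F)) : AbOut p S := by
  rcases e with ⟨h3, ⟨e⟩⟩ | ⟨⟨e⟩⟩ | ⟨⟨e⟩⟩ | ⟨⟨e⟩⟩
  · exact (((commOut_of_cycOut (H523.Chev.cycOut_G2 h3)).of_equiv e).abP p).abOut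
  · exact (((commOut_of_cycOut H523.Chev.cycOut_F4).of_equiv e).abP p).abOut
  · obtain ⟨f, hf, hK⟩ := exists_rf (r := r) F
    obtain ⟨hs, hna⟩ := Cfsg.Agent.S1054.result (F := F) chevE7 (by simp)
    exact (((commOut_E7 (Fact.out : r.Prime) hf hK (exists_ne_of hna)).of_equiv e).abP p).abOut
  · exact (((commOut_of_cycOut H523.Chev.cycOut_E8).of_equiv e).abP p).abOut

end main

end Cfsg.Agent.H804.KB
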