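import Cfsg.Agent.H804.KB.AbChev
import Cfsg.Agent.H299.AO.Lift
import Cfsg.Agent.H795.RowsA
import Cfsg.Agent.H129.PhiE

/-!
# S4822, AO6: `AbOut` for `E₆(q)`, `p ≥ 7` (helper804)

The commutators of automorphisms are inner-diagonal; the inner-diagonal automorphisms are induced by the fixed points of
the Frobenius map of the group over the algebraic closure, some of which centralise a (toral) Sylow `p`-subgroup and are
not inner (`H299.AO.exists_cen`).
-/

set_option autoImplicit false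
set_option linter.unusedSectionVars false
set_option maxHeartbeats 400000

open Cfsg

namespace Cfsg.Agent.H804.KB

open CoxeterSystem Cfsg Cfsg.Lie Cfsg.Lie.ChevalleyDatum
open Cfsg.Agent.ChevalleyStructure Cfsg.Agent.ChevalleyStructure.Elts Cfsg.Agent.ChevalleyStructure.CoxeterGeom
  Cfsg.Agent.ChevalleyStructure.CoxeterGeomTypes Cfsg.Agent.ChevalleyStructure.NPerm
open Cfsg.Agent.Tits.Roots Cfsg.Agent.Tits.Core Cfsg.Agent.Nodes Cfsg.Agent.Nodes.Reps Cfsg.Agent.Nodes.BNOf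
  Cfsg.Agent.Nodes.RGDChev Cfsg.Agent.Nodes.Bruhat
open Cfsg.Agent.KFacts.RgdTau
open Cfsg.Agent.KFacts.RgdField Cfsg.Agent.KFacts.RgdChevCoord Cfsg.Agent.BpExc.TorCent Cfsg.Agent.BpExc.TorChev
open Cfsg.Agent.GpExc.Field Cfsg.Agent.BpExc.Tow Cfsg.Agent.BpExc.TowChev Cfsg.Agent.BpExc.Fr
  Cfsg.Agent.BpExc.LangFr Cfsg.Agent.BpExc Cfsg.Agent.H129.TorusChar Cfsg.Agent.H129.TorusUntw
  Cfsg.Agent.H129.StCover Cfsg.Agent.H129.StTw Cfsg.Agent.H129.StTwT
open Cfsg.Agent.ChevalleyStructure.StBasic Cfsg.Agent.ChevalleyStructure.StTheta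
open Cfsg.Agent.H795.Reduce Cfsg.Agent.H795.Core Cfsg.Agent.H720.TwFr
open Cfsg.Agent.H299.AO
open Cfsg.Agent.H35.ExcIdx (hpE6)

universe u

section

variable {K : Type} [Field K] [Fintype K] {k : Type} [Field k] [IsAlgClosed k] (f : K →+* k)
  (r : ℕ) [Fact r.Prime] [CharP k r]

/-- **Some fixed point centralises a Sylow subgroup and does not lie in `E₆(q)`, `3 ∣ q - 1`.** -/
theorem exists_cen_E6 {n : ℕ} (hk : LocFin k) (hn0 : 0 < n) (hK : Fintype.card K = r ^ n) {p : ℕ}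
    [hpp : Fact p.Prime] (hp3 : p ≠ 3) (h3 : 3 ∣ r ^ n - 1) (S : Sylow p ↥(chevE6.group K))
    (htor : ∃ z : ↥(chevE6.group k), ∀ x ∈ (S : Subgroup ↥(chevE6.group K)),
      z * emb hpE6.inList f x * z⁻¹ ∈ TT chevE6 k) :
    ∃ (P : Sylow p ↥(chevE6.group K)) (y0 : ↥(chevE6.group k)), H129.TorusUntw.phi chevE6 k r n y0 = y0 ∧
      y0 ∉ (emb hpE6.inList f).range ∧
      ∀ x ∈ (P : Subgroup ↥(chevE6.group K)), y0 * emb hpE6.inList f x = emb hpE6.inList f x * y0 := by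
  have hrp : r.Prime := Fact.out
  have hfin := Cfsg.Agent.H53.HC.ExcRows.finite_group (K := K) chevE6
  have hset := Cfsg.Agent.H795.Untw.setup_untw hpE6 hk f hn0 hK invC_E6 (by norm_num) (Or.inr Nat.prime_three)
    (p := p) (fun h => hp3 ((Nat.prime_dvd_prime_iff_eq hpp.out Nat.prime_three).1 h))
  have h2 : 2 ≤ r ^ n := hrp.two_le.trans (Nat.le_self_pow hn0.ne' r)
  -- the centre
  have hr3 : ¬ r ∣ 3 := fun h => by
    have h7 : r = 3 := (Nat.prime_dvd_prime_iff_eq hrp Nat.prime_three).1 h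
    rw [h7] at h3
    have h8 : 3 ∣ 3 ^ n := dvd_pow_self 3 hn0.ne'
    have h9 : 1 ≤ 3 ^ n := Nat.one_le_pow _ _ (by norm_num)
    omega
  have hdk : ((3 : ℕ) : k) ≠ 0 := by
    rw [Ne, CharP.cast_eq_zero_iff k r]
    exact hr3
  have : NeZero ((3 : ℕ) : k) := ⟨hdk⟩
  obtain ⟨ζ, hζ⟩ := HasEnoughRootsOfUnity.exists_primitiveRoot k 3
  have hζ0 : ζ ≠ 0 := hζ.ne_zero (by norm_num)
  set ω : kˣ := Units.mk0 ζ hζ0 with hω
  have hωd : ω ^ 3 = 1 := Units.ext (by rw [Units.val_pow_eq_pow_val]; exact hζ.pow_eq_one)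
  have hω1 : ω ≠ 1 := by
    intro h1
    have h3 : ζ = 1 := congrArg Units.val h1
    rw [h3] at hζ
    exact absurd (hζ.eq_orderOf.trans orderOf_one) (by norm_num)
  obtain ⟨Φ, hΦ⟩ := Cfsg.Agent.H129.PhiE.isPhi_E6 k
  have hΨ : ∀ b : Fin chevE6.rank → kˣ,
      stMap chevE6 (iterateFrobenius k r n) (Φ b) = Φ (mAct 1 (fun i => b i ^ r ^ n)) := by
    intro b
    rw [stMap_phi hΦ, mAct_one]
    refine congrArg Φ (funext fun i => Units.ext ?_)
    rw [Units.val_pow_eq_pow_val]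
    exact iterateFrobenius_def _ _ _
  have hφf : (iterateFrobenius k r n).comp f = f := by
    ext a
    exact (frob_fix_iff f hK (f a)).2 ⟨a, rfl⟩
  refine exists_cen hpE6 hk hΦ hset (stMap chevE6 (iterateFrobenius k r n)) (fun x => ?_) h2 hΨ ?_ (fun x => ?_)
    (cen_of hωd) (cen_ne hω1) S htor
  · rw [theta_stMap, phi_eq hpE6]
  · intro κ hκ
    obtain ⟨a, rfl⟩ := hΦ.center_le hκ
    rw [hΨ, mAct_one]
    refine congrArg Φ (funext fun i => ?_)
    have h4 := cen_cube ((hΦ.mem_iff a).1 hκ) i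
    obtain ⟨m, hm⟩ := h3
    have h5 : r ^ n = 3 * m + 1 := by omega
    rw [h5, pow_add, pow_mul, h4, one_pow, one_mul, pow_one]
  · obtain ⟨x', rfl⟩ := theta_surjective hpE6.inList x
    refine ⟨stMap chevE6 f x', ?_, theta_stMap f hpE6.inList x'⟩
    rw [stMap_comp, hφf]

end

/-! ### the theorem -/

theorem card_TT_E6 (K : Type) [Field K] [Fintype K] :
    Nat.gcd 3 (Fintype.card K - 1) * Nat.card (TT chevE6 K) = (Fintype.card K - 1) ^ 6 := by
  have h1 := S1035.result (F := K) (q := Fintype.card K) rfl (chevE6, Nat.gcd 3 (Fintype.card K - 1)) (by simp)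
  have h2 : Nat.card (chevE6.diagonalSubgroup K) = Nat.card (TT chevE6 K) :=
    (Nat.card_congr (Subgroup.subgroupOfEquivOfLe (diagonal_le_group hpE6.inList K)).toEquiv).symm
  rw [← h2]
  exact h1

/-- **`E₆(q)`, `p ≥ 7`.** -/
theorem abP_E6 {K : Type} [Field K] [Fintype K] [IsSimpleGroup ↥(chevE6.group K)]
    (hc : ∃ a b : ↥(chevE6.group K), a * b ≠ b * a) {p : ℕ} [hpp : Fact p.Prime] (h7 : 7 ≤ p) (hpK : (p : K) ≠ 0) :
    AbP p ↥(chevE6.group K) := by
  obtain ⟨r, n, hr, hrF, hrk, hn0, hK, hk⟩ := exists_closure (F := K) rfl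
  have hrp : r.Prime := hr.out
  by_cases h3 : 3 ∣ r ^ n - 1
  swap
  · exact (commOut_E6 hrp hn0.ne' hK hc ((Nat.prime_three.coprime_iff_not_dvd).2 h3)).abP p
  have hpr : p ≠ r := by
    rintro rfl
    exact hpK (CharP.cast_eq_zero K p)
  have hfin := Cfsg.Agent.H53.HC.ExcRows.finite_group (K := K) chevE6
  let k := AlgebraicClosure K
  let f : K →+* k := algebraMap K k
  have hinj : Function.Injective (emb hpE6.inList f) := emb_injective hpE6.inList f
  -- torality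
  obtain ⟨S⟩ : Nonempty (Sylow p ↥(chevE6.group K)) := inferInstance
  have htor : ∃ z : ↥(chevE6.group k), ∀ x ∈ (S : Subgroup ↥(chevE6.group K)),
      z * emb hpE6.inList f x * z⁻¹ ∈ TT chevE6 k := by
    have hfin : Finite ↥((S : Subgroup ↥(chevE6.group K)).map (emb hpE6.inList f)) :=
      Finite.of_surjective _ ((emb hpE6.inList f).subgroupMap_surjective (S : Subgroup ↥(chevE6.group K)))
    obtain ⟨z, hz⟩ := Cfsg.Agent.H795.TorSub.exists_toral_of_not_dvd hpE6 r hk hpp.out hpr (by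
        rw [Cfsg.Agent.H795.RowsA.card_E6]
        intro h
        have h1 : p ∣ 2 ^ 7 * (3 ^ 4 * 5) := by
          norm_num
          exact h
        rcases (hpp.out.dvd_mul).1 h1 with h2 | h2
        · have := (Nat.prime_dvd_prime_iff_eq hpp.out Nat.prime_two).1 (hpp.out.dvd_of_dvd_pow h2)
          omega
        rcases (hpp.out.dvd_mul).1 h2 with h2 | h2
        · have := (Nat.prime_dvd_prime_iff_eq hpp.out Nat.prime_three).1 (hpp.out.dvd_of_dvd_pow h2)
          omega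
        · have := (Nat.prime_dvd_prime_iff_eq hpp.out Nat.prime_five).1 h2
          omega) (Q := (S : Subgroup ↥(chevE6.group K)).map (emb hpE6.inList f)) (S.2.map _)
    exact ⟨z, fun x hx => hz _ ⟨x, hx, rfl⟩⟩
  have hset := Cfsg.Agent.H795.Untw.setup_untw hpE6 hk f hn0 hK invC_E6 (by norm_num) (Or.inr Nat.prime_three)
    (p := p) (fun h => by
      have := (Nat.prime_dvd_prime_iff_eq hpp.out Nat.prime_three).1 h
      omega)
  obtain ⟨P, y0, hy0, hy0n, hy0c⟩ := exists_cen_E6 f r hk hn0 hK (p := p) (by omega) h3 S htor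
  refine abP_of_sylow P fun α β => ?_
  -- the commutator is inner-diagonal
  have D := Cfsg.Agent.H35.ExcIdx.data_E6_3 hrp hn0.ne' hK
  have hW := D.fin
  have hG1 : RGD.Sup (Cfsg.Agent.KFacts.RgdChevCoord.XX chevE6 6 K)
      {x | IsRoot CoxeterMatrix.E₆.toCoxeterSystem hpE6.isCartan x} = ⊤ := G1_eq_top hpE6 CoxeterMatrix.E₆.toCoxeterSystem
  have hconn := KFacts.RgdLieCharP.conn_of_simple D.rgd hG1 (KFacts.RgdLieCharP.center_eq_bot hc)
  obtain ⟨l, -, hl2, -, -, -, hl6⟩ := exists_outHom_E6 hrp hn0.ne' hK hc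
  obtain ⟨y, β', e1, hβ'⟩ := hl6 _ (hl2 α β)
  obtain ⟨t, ht, e2⟩ := Cfsg.Agent.BpExc.FamExt.exists_ext hpE6 f r hconn invC_E6 (by norm_num)
    (fun c _ => IsAlgClosed.exists_pow_nat_eq _ (by norm_num)) hβ' (τ' := (1 : k ≃+* k)) (fun a => rfl)
  obtain ⟨z, hz⟩ : ∃ z, z = emb hpE6.inList f y * t := ⟨_, rfl⟩
  have e3 : ∀ g, emb hpE6.inList f ((α * β * α⁻¹ * β⁻¹) g) = z * emb hpE6.inList f g * z⁻¹ := by
    intro g
    have h1 := e2 g
    rw [Cfsg.Agent.CpAut.RgdUntw.fld_one] at h1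
    rw [e1, MulAut.mul_apply, MulAut.conj_apply, map_mul, map_mul, map_inv, h1, hz]
    show _ * (t * emb hpE6.inList f g * t⁻¹) * _ = _
    group
  have hZ : Subgroup.center ↥(chevE6.group k) = ⊥ := Cfsg.Agent.H70.OutCount.center_eq_bot hpE6.inList
  have hzf : H129.TorusUntw.phi chevE6 k r n z = z := by
    have h1 : z⁻¹ * H129.TorusUntw.phi chevE6 k r n z = 1 := by
      refine Cfsg.Agent.BpExc.FamUntw.eq_one_of_comm hpE6 hk r f hZ fun g => ?_
      have h2 := congrArg (H129.TorusUntw.phi chevE6 k r n) (e3 g)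
      rw [phi_emb hpE6 f hK, map_mul, map_mul, map_inv, phi_emb hpE6 f hK, e3] at h2
      rw [← mul_inv_eq_iff_eq_mul]
      calc z⁻¹ * H129.TorusUntw.phi chevE6 k r n z * emb hpE6.inList f g *
            (z⁻¹ * H129.TorusUntw.phi chevE6 k r n z)⁻¹
          = z⁻¹ * (H129.TorusUntw.phi chevE6 k r n z * emb hpE6.inList f g *
            (H129.TorusUntw.phi chevE6 k r n z)⁻¹) * z := by group
        _ = emb hpE6.inList f g := by rw [← h2]; group
    exact (inv_mul_eq_one.1 h1).symm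
  obtain ⟨hfinT, hdvd⟩ := card_fixT hpE6 CoxeterMatrix.E₆.toCoxeterSystem hn0
    (isFrob_phi (D := chevE6) (k := k) (p := r) (e := n)) (fr_phi hpE6 CoxeterMatrix.E₆.toCoxeterSystem) (m := 6)
    (fun a => a) (fun _ => 1) (fun _ => one_pos) (fun a => rfl) (fun i => ⟨i, 0, rfl⟩)
  obtain ⟨s, j, hsj⟩ := exists_pow_of_split (A := fixT chevE6 k (H129.TorusUntw.phi chevE6 k r n)) hset.norm
    (fun t ht => ht.2) hfinT (by
      intro y hy
      obtain ⟨x, t, ht, e⟩ := fix_split hpE6 f hK hy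
      refine ⟨x, t, ⟨ht, ?_⟩, e⟩
      show H129.TorusUntw.phi chevE6 k r n t = t
      have h5 := hy
      rw [e, map_mul, phi_emb hpE6 f hK] at h5
      exact mul_left_cancel h5) (H := (TT chevE6 K).map (emb hpE6.inList f)) (by
      rintro _ ⟨h, hh, rfl⟩
      exact ⟨emb_T hpE6 _ ⟨h, hh, rfl⟩, hset.fix _⟩) (by
      rintro _ ⟨h, hh, rfl⟩
      exact ⟨_, rfl⟩) Nat.prime_three (by
      have h5 : Nat.card ↥((TT chevE6 K).map (emb hpE6.inList f)) = Nat.card (TT chevE6 K) :=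
        (Nat.card_congr (Subgroup.equivMapOfInjective _ _ hinj).toEquiv).symm
      have h6 := card_TT_E6 K
      rw [hK, Nat.gcd_eq_left h3] at h6
      rw [h5, h6]
      simpa using hdvd) hy0 hy0n hzf
  refine ⟨s, fun x hx => ?_⟩
  apply hinj
  have h1 : y0 ^ j * emb hpE6.inList f x * (y0 ^ j)⁻¹ = emb hpE6.inList f x := by
    have h2 : Commute (y0 ^ j) (emb hpE6.inList f x) := Commute.pow_left (hy0c x hx) j
    rw [h2.eq, mul_inv_cancel_right]
  rw [e3, hsj, map_mul, map_mul, map_inv]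
  calc emb hpE6.inList f s * y0 ^ j * emb hpE6.inList f x * (emb hpE6.inList f s * y0 ^ j)⁻¹
      = emb hpE6.inList f s * (y0 ^ j * emb hpE6.inList f x * (y0 ^ j)⁻¹) * (emb hpE6.inList f s)⁻¹ := by group
    _ = _ := by rw [h1]

/-- **AO6: `E₆(q)`, `p ≥ 7`.** -/
theorem ab_E6 {p : ℕ} [Fact p.Prime] {S : Type u} [Group S] [Finite S] [IsSimpleGroup S] {r : ℕ} [Fact r.Prime]
    (hrp : r ≠ p) (h7 : 7 ≤ p) {F : Type} [Field F] [Fintype F] [CharP F r]
    (e : Nonempty (S ≃* Lie.chevE6.group F)) : Cfsg.Agent.H508.KB.AbOut p S := by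
  obtain ⟨e⟩ := e
  obtain ⟨hs, hna⟩ := Cfsg.Agent.S1054.result (F := F) chevE6 (by simp)
  refine ((abP_E6 (Cfsg.Agent.H804.Ext.exists_ne_of hna) h7 ?_).of_equiv e).abOut
  rw [Ne, CharP.cast_eq_zero_iff F r]
  intro h
  exact hrp ((Nat.prime_dvd_prime_iff_eq Fact.out Fact.out).1 h)

end Cfsg.Agent.H804.KB
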