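import Cfsg.Agent.H508.KB.Defs
import Cfsg.Agent.H523.FpfChev

/-!
# S4822, AO: groups with abelian outer automorphism group modulo the centralizer of a Sylow subgroup (helper804)

* `CommOut S` : the commutators of automorphisms are inner; `abOut_of_commOut`;
* `AbP p S` : the commutators of automorphisms are inner on the `p`-subgroups; `abOut_of_abP`, `AbP.congr`, `abP_of_sylow`;
* `abP_of_cyclic` : cyclic Sylow subgroups;
* `commOut_of_hom` : a homomorphism to a cyclic group;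
* `commOut_of_ker`, `abP_of_ker` : a homomorphism with kernel `Inn` or `Inn ⟨δ⟩`.
-/

set_option autoImplicit false
set_option linter.unusedSectionVars false

open Cfsg Subgroup
open scoped Pointwise

namespace Cfsg.Agent.H804.KB

universe u v

open Cfsg.Agent.H508.KB

/-- the commutators of automorphisms are inner -/
def CommOut (S : Type u) [Group S] : Prop :=
  ∀ α β : MulAut S, ∃ s : S, α * β * α⁻¹ * β⁻¹ = MulAut.conj s

/-- the commutators of automorphisms are inner on every `p`-subgroup -/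
def AbP (p : ℕ) (S : Type u) [Group S] : Prop :=
  ∀ (P : Subgroup S), IsPGroup p P → ∀ α β : MulAut S, ∃ s : S, ∀ x ∈ P, (α * β * α⁻¹ * β⁻¹) x = s * x * s⁻¹

theorem AbP.abOut {p : ℕ} {S : Type u} [Group S] (h : AbP p S) : AbOut p S :=
  fun P _ _ _ α _ β _ => h P P.isPGroup' α β

theorem CommOut.abP {S : Type u} [Group S] (h : CommOut S) (p : ℕ) : AbP p S := by
  intro P _ α β
  obtain ⟨s, hs⟩ := h α β
  exact ⟨s, fun x _ => by rw [hs, MulAut.conj_apply]⟩

theorem CommOut.of_equiv {S : Type u} {S' : Type v} [Group S] [Group S'] (e : S ≃* S') (h : CommOut S') : CommOut S := by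
  intro α β
  obtain ⟨s, hs⟩ := h (MulAut.congr e α) (MulAut.congr e β)
  refine ⟨e.symm s, ?_⟩
  apply (MulAut.congr e).injective
  rw [map_mul, map_mul, map_mul, map_inv, map_inv, hs]
  ext x
  simp [MulAut.congr, MulAut.conj_apply]

theorem AbP.of_equiv {p : ℕ} {S : Type u} {S' : Type v} [Group S] [Group S'] (e : S ≃* S') (h : AbP p S') : AbP p S := by
  intro P hP α β
  obtain ⟨s, hs⟩ := h (P.map e.toMonoidHom) (hP.map _) (MulAut.congr e α) (MulAut.congr e β)
  refine ⟨e.symm s, fun x hx => ?_⟩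
  have h1 := hs (e x) ⟨x, hx, rfl⟩
  have h2 : (MulAut.congr e α * MulAut.congr e β * (MulAut.congr e α)⁻¹ * (MulAut.congr e β)⁻¹) (e x) =
      e ((α * β * α⁻¹ * β⁻¹) x) := by
    rw [← map_inv, ← map_inv, ← map_mul, ← map_mul, ← map_mul]
    change e ((α * β * α⁻¹ * β⁻¹) (e.symm (e x))) = _
    rw [e.symm_apply_apply]
  rw [h2] at h1
  apply e.injective
  rw [h1, map_mul, map_mul, map_inv, e.apply_symm_apply]

/-- it is enough to look at one Sylow subgroup -/
theorem abP_of_sylow {p : ℕ} [Fact p.Prime] {S : Type u} [Group S] [Finite S] (P : Sylow p S)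
    (h : ∀ α β : MulAut S, ∃ s : S, ∀ x ∈ P, (α * β * α⁻¹ * β⁻¹) x = s * x * s⁻¹) : AbP p S := by
  intro Q hQ α β
  obtain ⟨R, hR⟩ := hQ.exists_le_sylow
  obtain ⟨g, hg⟩ := MulAction.exists_smul_eq S P R
  obtain ⟨s, hs⟩ := h α β
  set δ := α * β * α⁻¹ * β⁻¹ with hδ
  refine ⟨δ g * s * g⁻¹, fun x hx => ?_⟩
  have h1 : x ∈ (g • P : Sylow p S) := by rw [hg]; exact hR hx
  obtain ⟨y, hy, rfl⟩ : ∃ y ∈ P, x = g * y * g⁻¹ := by
    have h2 : x ∈ ((MulAut.conj g) • (P : Subgroup S) : Subgroup S) := h1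
    obtain ⟨y, hy, e⟩ := h2
    exact ⟨y, hy, e.symm⟩
  rw [map_mul, map_mul, map_inv, hs y hy]
  group

/-- **Cyclic Sylow subgroups.** -/
theorem abP_of_cyclic {p : ℕ} [Fact p.Prime] {S : Type u} [Group S] [Finite S] (P : Sylow p S)
    (hc : IsCyclic (P : Subgroup S)) : AbP p S := by
  refine abP_of_sylow P fun α β => ?_
  -- modify by inner automorphisms
  have key : ∀ α : MulAut S, ∃ g : S, ∃ m : ℤ, ∀ x ∈ P, (MulAut.conj g * α) x = x ^ m := by
    intro α
    obtain ⟨g, hg⟩ := MulAction.exists_smul_eq S (α • P) P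
    have hP : ∀ x ∈ P, (MulAut.conj g * α) x ∈ P := by
      intro x hx
      have h1 : MulAut.conj g • α • (P : Subgroup S) = (P : Subgroup S) := congrArg Sylow.toSubgroup hg
      have h2 : (MulAut.conj g * α) x ∈ MulAut.conj g • α • (P : Subgroup S) := by
        rw [MulAut.mul_apply]
        exact ⟨α x, ⟨x, hx, rfl⟩, rfl⟩
      rw [h1] at h2
      exact h2
    obtain ⟨⟨c, hcP⟩, hgen⟩ := hc.exists_generator
    have h3 : (⟨_, hP c hcP⟩ : (P : Subgroup S)) ∈ Subgroup.zpowers (⟨c, hcP⟩ : (P : Subgroup S)) := hgen _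
    obtain ⟨m, hm⟩ := h3
    have hm' : c ^ m = (MulAut.conj g * α) c := congrArg Subtype.val hm
    refine ⟨g, m, fun x hx => ?_⟩
    obtain ⟨k, hk⟩ := hgen ⟨x, hx⟩
    have hk' : c ^ k = x := congrArg Subtype.val hk
    rw [← hk', map_zpow, ← hm', ← zpow_mul, ← zpow_mul, mul_comm]
  obtain ⟨g, m, hg⟩ := key α
  obtain ⟨k, n, hk⟩ := key β
  set a := MulAut.conj g * α with ha
  set b := MulAut.conj k * β with hb
  have hab : ∀ x ∈ P, (a * b) x = (b * a) x := by
    intro x hx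
    have e1 : (a * b) x = a (b x) := rfl
    have e2 : (b * a) x = b (a x) := rfl
    rw [e1, e2, hk x hx, hg x hx, hg _ (zpow_mem hx n), hk _ (zpow_mem hx m), ← zpow_mul, ← zpow_mul, mul_comm]
  -- `a⁻¹ b⁻¹` maps `P` into `P`
  have hinv : ∀ x ∈ P, (a⁻¹ * b⁻¹) x ∈ P := by
    intro x hx
    have h1 : ∀ c : MulAut S, (∀ x ∈ P, c x ∈ P) → ∀ x ∈ P, c⁻¹ x ∈ P := by
      intro c hc x hx
      have h2 : Finite (P : Subgroup S) := inferInstance
      have h3 : Function.Injective (fun y : (P : Subgroup S) => (⟨c y, hc y y.2⟩ : (P : Subgroup S))) := by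
        intro y z hyz
        exact Subtype.ext (c.injective (congrArg Subtype.val hyz))
      obtain ⟨y, hy⟩ := (Finite.injective_iff_surjective.1 h3) ⟨x, hx⟩
      have h4 : c y = x := congrArg Subtype.val hy
      rw [← h4, MulAut.inv_apply_self]
      exact y.2
    rw [MulAut.mul_apply]
    exact h1 a (fun y hy => by rw [hg y hy]; exact zpow_mem hy m) _
      (h1 b (fun y hy => by rw [hk y hy]; exact zpow_mem hy n) x hx)
  have hcomm : ∀ x ∈ P, (a * b * a⁻¹ * b⁻¹) x = x := by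
    intro x hx
    have e : (a * b * a⁻¹ * b⁻¹) x = (a * b) ((a⁻¹ * b⁻¹) x) := rfl
    rw [e, hab _ (hinv x hx)]
    have e2 : (b * a) ((a⁻¹ * b⁻¹) x) = (b * a * (a⁻¹ * b⁻¹)) x := rfl
    rw [e2]
    have e3 : b * a * (a⁻¹ * b⁻¹) = 1 := by group
    rw [e3]; rfl
  -- compare with the commutator of `α`, `β`
  have hN : ((MulAut.conj : S →* MulAut S).range).Normal := H523.conj_range_normal S
  have h1 : α * β * α⁻¹ * β⁻¹ * (a * b * a⁻¹ * b⁻¹)⁻¹ ∈ (MulAut.conj : S →* MulAut S).range := by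
    have hα : QuotientGroup.mk' (MulAut.conj : S →* MulAut S).range a = QuotientGroup.mk' _ α := by
      rw [ha, map_mul]
      have : QuotientGroup.mk' (MulAut.conj : S →* MulAut S).range (MulAut.conj g) = 1 :=
        (QuotientGroup.eq_one_iff _).2 ⟨g, rfl⟩
      rw [this, one_mul]
    have hβ : QuotientGroup.mk' (MulAut.conj : S →* MulAut S).range b = QuotientGroup.mk' _ β := by
      rw [hb, map_mul]
      have : QuotientGroup.mk' (MulAut.conj : S →* MulAut S).range (MulAut.conj k) = 1 :=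
        (QuotientGroup.eq_one_iff _).2 ⟨k, rfl⟩
      rw [this, one_mul]
    rw [← QuotientGroup.eq_one_iff, ← QuotientGroup.mk'_apply]
    simp only [map_mul, map_inv, hα, hβ]
    group
  obtain ⟨s, hs⟩ := h1
  refine ⟨s, fun x hx => ?_⟩
  have h2 : α * β * α⁻¹ * β⁻¹ = MulAut.conj s * (a * b * a⁻¹ * b⁻¹) := by
    rw [hs]; group
  rw [h2, MulAut.mul_apply, hcomm x hx, MulAut.conj_apply]

theorem commOut_of_cycOut {S : Type u} [Group S] (h : H523.CycOut S) : CommOut S := by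
  have hn := H523.conj_range_normal S
  obtain ⟨γ, hγ⟩ := h
  intro α β
  have h1 : ∀ α : MulAut S, ∃ k : ℤ, QuotientGroup.mk' (MulAut.conj : S →* MulAut S).range α =
      QuotientGroup.mk' (MulAut.conj : S →* MulAut S).range γ ^ k := by
    intro α
    obtain ⟨g, k, e⟩ := hγ α
    refine ⟨k, ?_⟩
    have : QuotientGroup.mk' (MulAut.conj : S →* MulAut S).range (MulAut.conj g) = 1 :=
      (QuotientGroup.eq_one_iff _).2 ⟨g, rfl⟩
    rw [e, map_mul, this, one_mul, map_zpow]
  obtain ⟨k, hk⟩ := h1 α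
  obtain ⟨m, hm⟩ := h1 β
  have h2 : α * β * α⁻¹ * β⁻¹ ∈ (MulAut.conj : S →* MulAut S).range := by
    rw [← QuotientGroup.eq_one_iff, ← QuotientGroup.mk'_apply]
    simp only [map_mul, map_inv, hk, hm]
    rw [← zpow_neg, ← zpow_neg, ← zpow_add, ← zpow_add, ← zpow_add]
    simp
  obtain ⟨s, hs⟩ := h2
  exact ⟨s, hs.symm⟩

/-- **A homomorphism to a cyclic group with small kernel.** -/
theorem commOut_of_hom {S : Type u} [Group S] [Finite S] {Γ : Type v} [Group Γ] [Finite Γ] [IsCyclic Γ]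
    (f : MulAut S →* Γ) (hf : Function.Surjective f) (hI : ∀ g, f (MulAut.conj g) = 1) {m : ℕ}
    (hcard : Nat.card (Cfsg.Out S) = m * Nat.card Γ) (hm : m ≤ 2) : CommOut S := by
  have hn : (Cfsg.Inn S).Normal := H523.conj_range_normal S
  have hle : Cfsg.Inn S ≤ f.ker := by
    rintro _ ⟨g, rfl⟩
    exact hI g
  let F : Cfsg.Out S →* Γ := QuotientGroup.lift (Cfsg.Inn S) f hle
  have hF : Function.Surjective F := fun y => by
    obtain ⟨x, rfl⟩ := hf y
    exact ⟨QuotientGroup.mk x, rfl⟩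
  have hfin : Finite (Cfsg.Out S) := by
    have : Finite (MulAut S) := inferInstance
    exact Quotient.finite _
  have h1 : Nat.card F.ker = m := by
    have h2 := Subgroup.card_mul_index F.ker
    rw [Subgroup.index_ker, MonoidHom.range_eq_top.2 hF, Subgroup.card_top, hcard] at h2
    exact Nat.eq_of_mul_eq_mul_right Nat.card_pos h2
  have hcen : F.ker ≤ Subgroup.center (Cfsg.Out S) := by
    intro z hz
    rw [Subgroup.mem_center_iff]
    intro g
    by_contra hne
    have hz1 : z ≠ 1 := by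
      rintro rfl
      exact hne (by rw [mul_one, one_mul])
    have hc : g * z * g⁻¹ ∈ F.ker := (MonoidHom.normal_ker F).conj_mem z hz g
    have hc1 : g * z * g⁻¹ ≠ 1 := by
      intro h2
      apply hz1
      have h3 := mul_inv_eq_one.1 h2
      exact mul_eq_left.1 h3
    have hc2 : g * z * g⁻¹ ≠ z := by
      intro h2
      exact hne (mul_inv_eq_iff_eq_mul.1 h2)
    have h3 : 3 ≤ Nat.card F.ker := by
      have h4 : ({1, z, g * z * g⁻¹} : Set (Cfsg.Out S)).ncard = 3 := by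
        rw [Set.ncard_eq_three]
        exact ⟨1, z, g * z * g⁻¹, hz1.symm, hc1.symm, hc2.symm, rfl⟩
      have h5 : ({1, z, g * z * g⁻¹} : Set (Cfsg.Out S)) ⊆ (F.ker : Set (Cfsg.Out S)) := by
        rintro x (rfl | rfl | rfl)
        · exact one_mem _
        · exact hz
        · exact hc
      rw [← h4]
      calc ({1, z, g * z * g⁻¹} : Set (Cfsg.Out S)).ncard ≤ (F.ker : Set (Cfsg.Out S)).ncard :=
            Set.ncard_le_ncard h5 (Set.toFinite _)
        _ = Nat.card F.ker := Nat.card_coe_set_eq _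
    omega
  have hcomm : ∀ a b : Cfsg.Out S, a * b = b * a :=
    fun a b => (F.isMulCommutative_of_isCyclic_of_ker_le_center hcen).is_comm.comm a b
  intro α β
  have h2 : α * β * α⁻¹ * β⁻¹ ∈ Cfsg.Inn S := by
    rw [← QuotientGroup.eq_one_iff]
    change (QuotientGroup.mk α * QuotientGroup.mk β * (QuotientGroup.mk α)⁻¹ * (QuotientGroup.mk β)⁻¹ : Cfsg.Out S) = 1
    rw [hcomm (QuotientGroup.mk α) (QuotientGroup.mk β)]
    group
  obtain ⟨s, hs⟩ := h2
  exact ⟨s, hs.symm⟩

/-- a homomorphism with small kernel, the induced map on the outer automorphism group -/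
theorem card_ker_le {S : Type u} [Group S] [Finite S] {Γ : Type v} [Group Γ] (l : MulAut S →* Γ)
    (h1 : ∀ g, l (MulAut.conj g) = 1) {m : ℕ} (h3 : Nat.card (Cfsg.Out S) ≤ m * Nat.card l.range) :
    ∃ F : Cfsg.Out S →* Γ, (∀ α, F (QuotientGroup.mk α) = l α) ∧ Nat.card F.ker ≤ m := by
  have hle : Cfsg.Inn S ≤ l.ker := by
    rintro _ ⟨g, rfl⟩
    exact h1 g
  have hfin : Finite (Cfsg.Out S) := by
    have : Finite (MulAut S) := inferInstance
    exact Quotient.finite _
  let F : Cfsg.Out S →* Γ := QuotientGroup.lift (Cfsg.Inn S) l hle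
  have hF : ∀ α, F (QuotientGroup.mk α) = l α := fun α => rfl
  refine ⟨F, hF, ?_⟩
  have hr : F.range = l.range := by
    ext y
    constructor
    · rintro ⟨x, rfl⟩
      obtain ⟨α, rfl⟩ := QuotientGroup.mk_surjective x
      exact ⟨α, (hF α).symm⟩
    · rintro ⟨α, rfl⟩
      exact ⟨_, hF α⟩
  have h2 := Subgroup.card_mul_index F.ker
  rw [Subgroup.index_ker, hr] at h2
  have hpos : 0 < Nat.card l.range := by
    have : Finite F.range := Finite.of_surjective F.rangeRestrict F.rangeRestrict_surjective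
    rw [← hr]
    exact Nat.card_pos
  rw [← h2] at h3
  exact Nat.le_of_mul_le_mul_right h3 hpos

/-- **The commutators are inner.** -/
theorem commOut_of_ker {S : Type u} [Group S] [Finite S] {Γ : Type v} [Group Γ] (l : MulAut S →* Γ)
    (h1 : ∀ g, l (MulAut.conj g) = 1) (h2 : ∀ α β, l (α * β * α⁻¹ * β⁻¹) = 1)
    (h3 : Nat.card (Cfsg.Out S) ≤ 1 * Nat.card l.range) : CommOut S := by
  obtain ⟨F, hF, hc⟩ := card_ker_le l h1 h3
  have hfin : Finite (Cfsg.Out S) := by
    have : Finite (MulAut S) := inferInstance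
    exact Quotient.finite _
  have h4 : F.ker = ⊥ := Subgroup.eq_bot_of_card_le _ hc
  intro α β
  have h5 : (QuotientGroup.mk (α * β * α⁻¹ * β⁻¹) : Cfsg.Out S) ∈ F.ker := by
    rw [MonoidHom.mem_ker, hF, h2]
  rw [h4, Subgroup.mem_bot, QuotientGroup.eq_one_iff] at h5
  obtain ⟨s, hs⟩ := h5
  exact ⟨s, hs.symm⟩

/-- **One outer automorphism in the kernel centralises the Sylow subgroup.** -/
theorem abP_of_ker {p : ℕ} [Fact p.Prime] {S : Type u} [Group S] [Finite S] {Γ : Type v} [Group Γ] (l : MulAut S →* Γ)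
    (h1 : ∀ g, l (MulAut.conj g) = 1) (h2 : ∀ α β, l (α * β * α⁻¹ * β⁻¹) = 1)
    (h3 : Nat.card (Cfsg.Out S) ≤ 3 * Nat.card l.range) (P : Sylow p S) {δ : MulAut S} (hδ : l δ = 1)
    (hδ' : δ ∉ (MulAut.conj : S →* MulAut S).range) (hP : ∀ x ∈ P, δ x = x) : AbP p S := by
  refine abP_of_sylow P fun α β => ?_
  obtain ⟨F, hF, hc⟩ := card_ker_le l h1 h3
  have hfin : Finite (Cfsg.Out S) := by
    have : Finite (MulAut S) := inferInstance
    exact Quotient.finite _
  have hδ1 : (QuotientGroup.mk δ : Cfsg.Out S) ∈ F.ker := by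
    rw [MonoidHom.mem_ker, hF, hδ]
  have hne : (⟨QuotientGroup.mk δ, hδ1⟩ : F.ker) ≠ 1 := by
    intro e
    have e1 : (QuotientGroup.mk δ : Cfsg.Out S) = 1 := congrArg Subtype.val e
    rw [QuotientGroup.eq_one_iff] at e1
    exact hδ' e1
  have hprime : (Nat.card F.ker).Prime := by
    have h4 : 1 < Nat.card F.ker := by
      have : Nontrivial F.ker := ⟨_, _, hne⟩
      exact Finite.one_lt_card
    have h5 : Nat.card F.ker = 2 ∨ Nat.card F.ker = 3 := by omega
    rcases h5 with e | e <;> rw [e]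
    · exact Nat.prime_two
    · exact Nat.prime_three
  have hfp : Fact (Nat.card F.ker).Prime := ⟨hprime⟩
  have htop := zpowers_eq_top_of_prime_card (G := F.ker) rfl hne
  have h5 : (QuotientGroup.mk (α * β * α⁻¹ * β⁻¹) : Cfsg.Out S) ∈ F.ker := by
    rw [MonoidHom.mem_ker, hF, h2]
  have h6 : (⟨_, h5⟩ : F.ker) ∈ Subgroup.zpowers (⟨QuotientGroup.mk δ, hδ1⟩ : F.ker) := by
    rw [htop]; exact Subgroup.mem_top _
  obtain ⟨k, hk⟩ := h6
  have h7 : (QuotientGroup.mk δ : Cfsg.Out S) ^ k = QuotientGroup.mk (α * β * α⁻¹ * β⁻¹) := congrArg Subtype.val hk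
  have h8 : α * β * α⁻¹ * β⁻¹ * (δ ^ k)⁻¹ ∈ (MulAut.conj : S →* MulAut S).range := by
    have h9 : (QuotientGroup.mk (α * β * α⁻¹ * β⁻¹ * (δ ^ k)⁻¹) : Cfsg.Out S) = 1 := by
      have h10 : (QuotientGroup.mk (α * β * α⁻¹ * β⁻¹ * (δ ^ k)⁻¹) : Cfsg.Out S) =
        QuotientGroup.mk (α * β * α⁻¹ * β⁻¹) * ((QuotientGroup.mk δ : Cfsg.Out S) ^ k)⁻¹ := rfl
      rw [h10, h7, mul_inv_cancel]
    rw [QuotientGroup.eq_one_iff] at h9
    exact h9
  obtain ⟨s, hs⟩ := h8
  have hPk : ∀ x ∈ P, (δ ^ k) x = x := by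
    intro x hx
    have hmem : δ ∈ MulAction.stabilizer (MulAut S) x := hP x hx
    exact zpow_mem hmem k
  refine ⟨s, fun x hx => ?_⟩
  have h9 : α * β * α⁻¹ * β⁻¹ = MulAut.conj s * δ ^ k := by
    rw [hs]; group
  rw [h9, MulAut.mul_apply, hPk x hx, MulAut.conj_apply]

end Cfsg.Agent.H804.KB
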